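import Cfsg.Agent.Lib.SporRecognition.CosetCert.Upper
import Cfsg.Agent.Lib.FusionExamples.J4Sub.B7392.Steps1
import Cfsg.Agent.Lib.FusionExamples.J4Sub.B7392.Steps2
import Cfsg.Agent.Lib.FusionExamples.J4Sub.B7392.Steps3
import Cfsg.Agent.Lib.FusionExamples.J4Sub.B7392.Steps4
import Cfsg.Agent.Lib.FusionExamples.J4Sub.B7392.Steps5
import Cfsg.Agent.Lib.FusionExamples.J4Sub.B7392.Steps6

/-! Generated coset-enumeration certificate: J47 over <a, g12>, 7392 cosets. -/

set_option autoImplicit false
set_option maxRecDepth 20000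
set_option linter.all false
set_option Elab.async false

namespace CfsgLib.FusionExamples.J4Sub.Stab.B7392

open CfsgLib.SporRecognition.CosetCert

theorem defs_ok_c0 : allPow 12777 (defStep inv fact) 12 0 = true := by decide +kernel
theorem defs_ok_c1 : allPow 12777 (defStep inv fact) 12 4096 = true := by decide +kernel
theorem defs_ok_c2 : allPow 12777 (defStep inv fact) 12 8192 = true := by decide +kernel
theorem defs_ok_c3 : allPow 12777 (defStep inv fact) 12 12288 = true := by decide +kernel
theorem defs_ok : allBelow 14 12777 (defStep inv fact) = true :=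
  allBelow_of_upto (hi := 16384)
    (Upto.trans (mid := 8192) (Upto.trans (mid := 4096) ((Upto.of_pow defs_ok_c0 (Nat.le_refl _)) : Upto _ _ 0 (0 + 2 ^ 12))
    ((Upto.of_pow defs_ok_c1 (Nat.le_refl _)) : Upto _ _ 4096 (4096 + 2 ^ 12)))
    (Upto.trans (mid := 12288) ((Upto.of_pow defs_ok_c2 (Nat.le_refl _)) : Upto _ _ 8192 (8192 + 2 ^ 12))
    ((Upto.of_pow defs_ok_c3 (Nat.le_refl _)) : Upto _ _ 12288 (12288 + 2 ^ 12))))
    (by decide) (by decide)

theorem final1_c0 : allPow 7392 (finalStep fact node item1 T1 55536 1 7392) 10 0 = true := by decide +kernel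
theorem final1_c1 : allPow 7392 (finalStep fact node item1 T1 55536 1 7392) 10 1024 = true := by decide +kernel
theorem final1_c2 : allPow 7392 (finalStep fact node item1 T1 55536 1 7392) 10 2048 = true := by decide +kernel
theorem final1_c3 : allPow 7392 (finalStep fact node item1 T1 55536 1 7392) 10 3072 = true := by decide +kernel
theorem final1_c4 : allPow 7392 (finalStep fact node item1 T1 55536 1 7392) 10 4096 = true := by decide +kernel
theorem final1_c5 : allPow 7392 (finalStep fact node item1 T1 55536 1 7392) 10 5120 = true := by decide +kernel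
theorem final1_c6 : allPow 7392 (finalStep fact node item1 T1 55536 1 7392) 10 6144 = true := by decide +kernel
theorem final1_c7 : allPow 7392 (finalStep fact node item1 T1 55536 1 7392) 10 7168 = true := by decide +kernel
theorem final1 : allBelow 13 7392 (finalStep fact node item1 T1 55536 1 7392) = true :=
  allBelow_of_upto (hi := 8192)
    (Upto.trans (mid := 4096) (Upto.trans (mid := 2048) (Upto.trans (mid := 1024) ((Upto.of_pow final1_c0 (Nat.le_refl _)) : Upto _ _ 0 (0 + 2 ^ 10))
    ((Upto.of_pow final1_c1 (Nat.le_refl _)) : Upto _ _ 1024 (1024 + 2 ^ 10)))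
    (Upto.trans (mid := 3072) ((Upto.of_pow final1_c2 (Nat.le_refl _)) : Upto _ _ 2048 (2048 + 2 ^ 10))
    ((Upto.of_pow final1_c3 (Nat.le_refl _)) : Upto _ _ 3072 (3072 + 2 ^ 10))))
    (Upto.trans (mid := 6144) (Upto.trans (mid := 5120) ((Upto.of_pow final1_c4 (Nat.le_refl _)) : Upto _ _ 4096 (4096 + 2 ^ 10))
    ((Upto.of_pow final1_c5 (Nat.le_refl _)) : Upto _ _ 5120 (5120 + 2 ^ 10)))
    (Upto.trans (mid := 7168) ((Upto.of_pow final1_c6 (Nat.le_refl _)) : Upto _ _ 6144 (6144 + 2 ^ 10))
    ((Upto.of_pow final1_c7 (Nat.le_refl _)) : Upto _ _ 7168 (7168 + 2 ^ 10)))))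
    (by decide) (by decide)

theorem final2_c0 : allPow 7392 (finalStep fact node item2 T2 55536 2 7392) 10 0 = true := by decide +kernel
theorem final2_c1 : allPow 7392 (finalStep fact node item2 T2 55536 2 7392) 10 1024 = true := by decide +kernel
theorem final2_c2 : allPow 7392 (finalStep fact node item2 T2 55536 2 7392) 10 2048 = true := by decide +kernel
theorem final2_c3 : allPow 7392 (finalStep fact node item2 T2 55536 2 7392) 10 3072 = true := by decide +kernel
theorem final2_c4 : allPow 7392 (finalStep fact node item2 T2 55536 2 7392) 10 4096 = true := by decide +kernel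
theorem final2_c5 : allPow 7392 (finalStep fact node item2 T2 55536 2 7392) 10 5120 = true := by decide +kernel
theorem final2_c6 : allPow 7392 (finalStep fact node item2 T2 55536 2 7392) 10 6144 = true := by decide +kernel
theorem final2_c7 : allPow 7392 (finalStep fact node item2 T2 55536 2 7392) 10 7168 = true := by decide +kernel
theorem final2 : allBelow 13 7392 (finalStep fact node item2 T2 55536 2 7392) = true :=
  allBelow_of_upto (hi := 8192)
    (Upto.trans (mid := 4096) (Upto.trans (mid := 2048) (Upto.trans (mid := 1024) ((Upto.of_pow final2_c0 (Nat.le_refl _)) : Upto _ _ 0 (0 + 2 ^ 10))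
    ((Upto.of_pow final2_c1 (Nat.le_refl _)) : Upto _ _ 1024 (1024 + 2 ^ 10)))
    (Upto.trans (mid := 3072) ((Upto.of_pow final2_c2 (Nat.le_refl _)) : Upto _ _ 2048 (2048 + 2 ^ 10))
    ((Upto.of_pow final2_c3 (Nat.le_refl _)) : Upto _ _ 3072 (3072 + 2 ^ 10))))
    (Upto.trans (mid := 6144) (Upto.trans (mid := 5120) ((Upto.of_pow final2_c4 (Nat.le_refl _)) : Upto _ _ 4096 (4096 + 2 ^ 10))
    ((Upto.of_pow final2_c5 (Nat.le_refl _)) : Upto _ _ 5120 (5120 + 2 ^ 10)))
    (Upto.trans (mid := 7168) ((Upto.of_pow final2_c6 (Nat.le_refl _)) : Upto _ _ 6144 (6144 + 2 ^ 10))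
    ((Upto.of_pow final2_c7 (Nat.le_refl _)) : Upto _ _ 7168 (7168 + 2 ^ 10)))))
    (by decide) (by decide)

theorem final3_c0 : allPow 7392 (finalStep fact node item3 T3 55536 3 7392) 10 0 = true := by decide +kernel
theorem final3_c1 : allPow 7392 (finalStep fact node item3 T3 55536 3 7392) 10 1024 = true := by decide +kernel
theorem final3_c2 : allPow 7392 (finalStep fact node item3 T3 55536 3 7392) 10 2048 = true := by decide +kernel
theorem final3_c3 : allPow 7392 (finalStep fact node item3 T3 55536 3 7392) 10 3072 = true := by decide +kernel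
theorem final3_c4 : allPow 7392 (finalStep fact node item3 T3 55536 3 7392) 10 4096 = true := by decide +kernel
theorem final3_c5 : allPow 7392 (finalStep fact node item3 T3 55536 3 7392) 10 5120 = true := by decide +kernel
theorem final3_c6 : allPow 7392 (finalStep fact node item3 T3 55536 3 7392) 10 6144 = true := by decide +kernel
theorem final3_c7 : allPow 7392 (finalStep fact node item3 T3 55536 3 7392) 10 7168 = true := by decide +kernel
theorem final3 : allBelow 13 7392 (finalStep fact node item3 T3 55536 3 7392) = true :=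
  allBelow_of_upto (hi := 8192)
    (Upto.trans (mid := 4096) (Upto.trans (mid := 2048) (Upto.trans (mid := 1024) ((Upto.of_pow final3_c0 (Nat.le_refl _)) : Upto _ _ 0 (0 + 2 ^ 10))
    ((Upto.of_pow final3_c1 (Nat.le_refl _)) : Upto _ _ 1024 (1024 + 2 ^ 10)))
    (Upto.trans (mid := 3072) ((Upto.of_pow final3_c2 (Nat.le_refl _)) : Upto _ _ 2048 (2048 + 2 ^ 10))
    ((Upto.of_pow final3_c3 (Nat.le_refl _)) : Upto _ _ 3072 (3072 + 2 ^ 10))))
    (Upto.trans (mid := 6144) (Upto.trans (mid := 5120) ((Upto.of_pow final3_c4 (Nat.le_refl _)) : Upto _ _ 4096 (4096 + 2 ^ 10))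
    ((Upto.of_pow final3_c5 (Nat.le_refl _)) : Upto _ _ 5120 (5120 + 2 ^ 10)))
    (Upto.trans (mid := 7168) ((Upto.of_pow final3_c6 (Nat.le_refl _)) : Upto _ _ 6144 (6144 + 2 ^ 10))
    ((Upto.of_pow final3_c7 (Nat.le_refl _)) : Upto _ _ 7168 (7168 + 2 ^ 10)))))
    (by decide) (by decide)

theorem final4_c0 : allPow 7392 (finalStep fact node item4 T4 55536 4 7392) 10 0 = true := by decide +kernel
theorem final4_c1 : allPow 7392 (finalStep fact node item4 T4 55536 4 7392) 10 1024 = true := by decide +kernel
theorem final4_c2 : allPow 7392 (finalStep fact node item4 T4 55536 4 7392) 10 2048 = true := by decide +kernel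
theorem final4_c3 : allPow 7392 (finalStep fact node item4 T4 55536 4 7392) 10 3072 = true := by decide +kernel
theorem final4_c4 : allPow 7392 (finalStep fact node item4 T4 55536 4 7392) 10 4096 = true := by decide +kernel
theorem final4_c5 : allPow 7392 (finalStep fact node item4 T4 55536 4 7392) 10 5120 = true := by decide +kernel
theorem final4_c6 : allPow 7392 (finalStep fact node item4 T4 55536 4 7392) 10 6144 = true := by decide +kernel
theorem final4_c7 : allPow 7392 (finalStep fact node item4 T4 55536 4 7392) 10 7168 = true := by decide +kernel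
theorem final4 : allBelow 13 7392 (finalStep fact node item4 T4 55536 4 7392) = true :=
  allBelow_of_upto (hi := 8192)
    (Upto.trans (mid := 4096) (Upto.trans (mid := 2048) (Upto.trans (mid := 1024) ((Upto.of_pow final4_c0 (Nat.le_refl _)) : Upto _ _ 0 (0 + 2 ^ 10))
    ((Upto.of_pow final4_c1 (Nat.le_refl _)) : Upto _ _ 1024 (1024 + 2 ^ 10)))
    (Upto.trans (mid := 3072) ((Upto.of_pow final4_c2 (Nat.le_refl _)) : Upto _ _ 2048 (2048 + 2 ^ 10))
    ((Upto.of_pow final4_c3 (Nat.le_refl _)) : Upto _ _ 3072 (3072 + 2 ^ 10))))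
    (Upto.trans (mid := 6144) (Upto.trans (mid := 5120) ((Upto.of_pow final4_c4 (Nat.le_refl _)) : Upto _ _ 4096 (4096 + 2 ^ 10))
    ((Upto.of_pow final4_c5 (Nat.le_refl _)) : Upto _ _ 5120 (5120 + 2 ^ 10)))
    (Upto.trans (mid := 7168) ((Upto.of_pow final4_c6 (Nat.le_refl _)) : Upto _ _ 6144 (6144 + 2 ^ 10))
    ((Upto.of_pow final4_c7 (Nat.le_refl _)) : Upto _ _ 7168 (7168 + 2 ^ 10)))))
    (by decide) (by decide)

theorem final5_c0 : allPow 7392 (finalStep fact node item5 T5 55536 5 7392) 10 0 = true := by decide +kernel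
theorem final5_c1 : allPow 7392 (finalStep fact node item5 T5 55536 5 7392) 10 1024 = true := by decide +kernel
theorem final5_c2 : allPow 7392 (finalStep fact node item5 T5 55536 5 7392) 10 2048 = true := by decide +kernel
theorem final5_c3 : allPow 7392 (finalStep fact node item5 T5 55536 5 7392) 10 3072 = true := by decide +kernel
theorem final5_c4 : allPow 7392 (finalStep fact node item5 T5 55536 5 7392) 10 4096 = true := by decide +kernel
theorem final5_c5 : allPow 7392 (finalStep fact node item5 T5 55536 5 7392) 10 5120 = true := by decide +kernel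
theorem final5_c6 : allPow 7392 (finalStep fact node item5 T5 55536 5 7392) 10 6144 = true := by decide +kernel
theorem final5_c7 : allPow 7392 (finalStep fact node item5 T5 55536 5 7392) 10 7168 = true := by decide +kernel
theorem final5 : allBelow 13 7392 (finalStep fact node item5 T5 55536 5 7392) = true :=
  allBelow_of_upto (hi := 8192)
    (Upto.trans (mid := 4096) (Upto.trans (mid := 2048) (Upto.trans (mid := 1024) ((Upto.of_pow final5_c0 (Nat.le_refl _)) : Upto _ _ 0 (0 + 2 ^ 10))
    ((Upto.of_pow final5_c1 (Nat.le_refl _)) : Upto _ _ 1024 (1024 + 2 ^ 10)))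
    (Upto.trans (mid := 3072) ((Upto.of_pow final5_c2 (Nat.le_refl _)) : Upto _ _ 2048 (2048 + 2 ^ 10))
    ((Upto.of_pow final5_c3 (Nat.le_refl _)) : Upto _ _ 3072 (3072 + 2 ^ 10))))
    (Upto.trans (mid := 6144) (Upto.trans (mid := 5120) ((Upto.of_pow final5_c4 (Nat.le_refl _)) : Upto _ _ 4096 (4096 + 2 ^ 10))
    ((Upto.of_pow final5_c5 (Nat.le_refl _)) : Upto _ _ 5120 (5120 + 2 ^ 10)))
    (Upto.trans (mid := 7168) ((Upto.of_pow final5_c6 (Nat.le_refl _)) : Upto _ _ 6144 (6144 + 2 ^ 10))
    ((Upto.of_pow final5_c7 (Nat.le_refl _)) : Upto _ _ 7168 (7168 + 2 ^ 10)))))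
    (by decide) (by decide)

theorem final6_c0 : allPow 7392 (finalStep fact node item6 T6 55536 6 7392) 10 0 = true := by decide +kernel
theorem final6_c1 : allPow 7392 (finalStep fact node item6 T6 55536 6 7392) 10 1024 = true := by decide +kernel
theorem final6_c2 : allPow 7392 (finalStep fact node item6 T6 55536 6 7392) 10 2048 = true := by decide +kernel
theorem final6_c3 : allPow 7392 (finalStep fact node item6 T6 55536 6 7392) 10 3072 = true := by decide +kernel
theorem final6_c4 : allPow 7392 (finalStep fact node item6 T6 55536 6 7392) 10 4096 = true := by decide +kernel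
theorem final6_c5 : allPow 7392 (finalStep fact node item6 T6 55536 6 7392) 10 5120 = true := by decide +kernel
theorem final6_c6 : allPow 7392 (finalStep fact node item6 T6 55536 6 7392) 10 6144 = true := by decide +kernel
theorem final6_c7 : allPow 7392 (finalStep fact node item6 T6 55536 6 7392) 10 7168 = true := by decide +kernel
theorem final6 : allBelow 13 7392 (finalStep fact node item6 T6 55536 6 7392) = true :=
  allBelow_of_upto (hi := 8192)
    (Upto.trans (mid := 4096) (Upto.trans (mid := 2048) (Upto.trans (mid := 1024) ((Upto.of_pow final6_c0 (Nat.le_refl _)) : Upto _ _ 0 (0 + 2 ^ 10))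
    ((Upto.of_pow final6_c1 (Nat.le_refl _)) : Upto _ _ 1024 (1024 + 2 ^ 10)))
    (Upto.trans (mid := 3072) ((Upto.of_pow final6_c2 (Nat.le_refl _)) : Upto _ _ 2048 (2048 + 2 ^ 10))
    ((Upto.of_pow final6_c3 (Nat.le_refl _)) : Upto _ _ 3072 (3072 + 2 ^ 10))))
    (Upto.trans (mid := 6144) (Upto.trans (mid := 5120) ((Upto.of_pow final6_c4 (Nat.le_refl _)) : Upto _ _ 4096 (4096 + 2 ^ 10))
    ((Upto.of_pow final6_c5 (Nat.le_refl _)) : Upto _ _ 5120 (5120 + 2 ^ 10)))
    (Upto.trans (mid := 7168) ((Upto.of_pow final6_c6 (Nat.le_refl _)) : Upto _ _ 6144 (6144 + 2 ^ 10))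
    ((Upto.of_pow final6_c7 (Nat.le_refl _)) : Upto _ _ 7168 (7168 + 2 ^ 10)))))
    (by decide) (by decide)

theorem final7_c0 : allPow 7392 (finalStep fact node item7 T7 55536 7 7392) 10 0 = true := by decide +kernel
theorem final7_c1 : allPow 7392 (finalStep fact node item7 T7 55536 7 7392) 10 1024 = true := by decide +kernel
theorem final7_c2 : allPow 7392 (finalStep fact node item7 T7 55536 7 7392) 10 2048 = true := by decide +kernel
theorem final7_c3 : allPow 7392 (finalStep fact node item7 T7 55536 7 7392) 10 3072 = true := by decide +kernel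
theorem final7_c4 : allPow 7392 (finalStep fact node item7 T7 55536 7 7392) 10 4096 = true := by decide +kernel
theorem final7_c5 : allPow 7392 (finalStep fact node item7 T7 55536 7 7392) 10 5120 = true := by decide +kernel
theorem final7_c6 : allPow 7392 (finalStep fact node item7 T7 55536 7 7392) 10 6144 = true := by decide +kernel
theorem final7_c7 : allPow 7392 (finalStep fact node item7 T7 55536 7 7392) 10 7168 = true := by decide +kernel
theorem final7 : allBelow 13 7392 (finalStep fact node item7 T7 55536 7 7392) = true :=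
  allBelow_of_upto (hi := 8192)
    (Upto.trans (mid := 4096) (Upto.trans (mid := 2048) (Upto.trans (mid := 1024) ((Upto.of_pow final7_c0 (Nat.le_refl _)) : Upto _ _ 0 (0 + 2 ^ 10))
    ((Upto.of_pow final7_c1 (Nat.le_refl _)) : Upto _ _ 1024 (1024 + 2 ^ 10)))
    (Upto.trans (mid := 3072) ((Upto.of_pow final7_c2 (Nat.le_refl _)) : Upto _ _ 2048 (2048 + 2 ^ 10))
    ((Upto.of_pow final7_c3 (Nat.le_refl _)) : Upto _ _ 3072 (3072 + 2 ^ 10))))
    (Upto.trans (mid := 6144) (Upto.trans (mid := 5120) ((Upto.of_pow final7_c4 (Nat.le_refl _)) : Upto _ _ 4096 (4096 + 2 ^ 10))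
    ((Upto.of_pow final7_c5 (Nat.le_refl _)) : Upto _ _ 5120 (5120 + 2 ^ 10)))
    (Upto.trans (mid := 7168) ((Upto.of_pow final7_c6 (Nat.le_refl _)) : Upto _ _ 6144 (6144 + 2 ^ 10))
    ((Upto.of_pow final7_c7 (Nat.le_refl _)) : Upto _ _ 7168 (7168 + 2 ^ 10)))))
    (by decide) (by decide)

theorem final8_c0 : allPow 7392 (finalStep fact node item8 T8 55536 8 7392) 10 0 = true := by decide +kernel
theorem final8_c1 : allPow 7392 (finalStep fact node item8 T8 55536 8 7392) 10 1024 = true := by decide +kernel
theorem final8_c2 : allPow 7392 (finalStep fact node item8 T8 55536 8 7392) 10 2048 = true := by decide +kernel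
theorem final8_c3 : allPow 7392 (finalStep fact node item8 T8 55536 8 7392) 10 3072 = true := by decide +kernel
theorem final8_c4 : allPow 7392 (finalStep fact node item8 T8 55536 8 7392) 10 4096 = true := by decide +kernel
theorem final8_c5 : allPow 7392 (finalStep fact node item8 T8 55536 8 7392) 10 5120 = true := by decide +kernel
theorem final8_c6 : allPow 7392 (finalStep fact node item8 T8 55536 8 7392) 10 6144 = true := by decide +kernel
theorem final8_c7 : allPow 7392 (finalStep fact node item8 T8 55536 8 7392) 10 7168 = true := by decide +kernel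
theorem final8 : allBelow 13 7392 (finalStep fact node item8 T8 55536 8 7392) = true :=
  allBelow_of_upto (hi := 8192)
    (Upto.trans (mid := 4096) (Upto.trans (mid := 2048) (Upto.trans (mid := 1024) ((Upto.of_pow final8_c0 (Nat.le_refl _)) : Upto _ _ 0 (0 + 2 ^ 10))
    ((Upto.of_pow final8_c1 (Nat.le_refl _)) : Upto _ _ 1024 (1024 + 2 ^ 10)))
    (Upto.trans (mid := 3072) ((Upto.of_pow final8_c2 (Nat.le_refl _)) : Upto _ _ 2048 (2048 + 2 ^ 10))
    ((Upto.of_pow final8_c3 (Nat.le_refl _)) : Upto _ _ 3072 (3072 + 2 ^ 10))))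
    (Upto.trans (mid := 6144) (Upto.trans (mid := 5120) ((Upto.of_pow final8_c4 (Nat.le_refl _)) : Upto _ _ 4096 (4096 + 2 ^ 10))
    ((Upto.of_pow final8_c5 (Nat.le_refl _)) : Upto _ _ 5120 (5120 + 2 ^ 10)))
    (Upto.trans (mid := 7168) ((Upto.of_pow final8_c6 (Nat.le_refl _)) : Upto _ _ 6144 (6144 + 2 ^ 10))
    ((Upto.of_pow final8_c7 (Nat.le_refl _)) : Upto _ _ 7168 (7168 + 2 ^ 10)))))
    (by decide) (by decide)

theorem final9_c0 : allPow 7392 (finalStep fact node item9 T9 55536 9 7392) 10 0 = true := by decide +kernel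
theorem final9_c1 : allPow 7392 (finalStep fact node item9 T9 55536 9 7392) 10 1024 = true := by decide +kernel
theorem final9_c2 : allPow 7392 (finalStep fact node item9 T9 55536 9 7392) 10 2048 = true := by decide +kernel
theorem final9_c3 : allPow 7392 (finalStep fact node item9 T9 55536 9 7392) 10 3072 = true := by decide +kernel
theorem final9_c4 : allPow 7392 (finalStep fact node item9 T9 55536 9 7392) 10 4096 = true := by decide +kernel
theorem final9_c5 : allPow 7392 (finalStep fact node item9 T9 55536 9 7392) 10 5120 = true := by decide +kernel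
theorem final9_c6 : allPow 7392 (finalStep fact node item9 T9 55536 9 7392) 10 6144 = true := by decide +kernel
theorem final9_c7 : allPow 7392 (finalStep fact node item9 T9 55536 9 7392) 10 7168 = true := by decide +kernel
theorem final9 : allBelow 13 7392 (finalStep fact node item9 T9 55536 9 7392) = true :=
  allBelow_of_upto (hi := 8192)
    (Upto.trans (mid := 4096) (Upto.trans (mid := 2048) (Upto.trans (mid := 1024) ((Upto.of_pow final9_c0 (Nat.le_refl _)) : Upto _ _ 0 (0 + 2 ^ 10))
    ((Upto.of_pow final9_c1 (Nat.le_refl _)) : Upto _ _ 1024 (1024 + 2 ^ 10)))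
    (Upto.trans (mid := 3072) ((Upto.of_pow final9_c2 (Nat.le_refl _)) : Upto _ _ 2048 (2048 + 2 ^ 10))
    ((Upto.of_pow final9_c3 (Nat.le_refl _)) : Upto _ _ 3072 (3072 + 2 ^ 10))))
    (Upto.trans (mid := 6144) (Upto.trans (mid := 5120) ((Upto.of_pow final9_c4 (Nat.le_refl _)) : Upto _ _ 4096 (4096 + 2 ^ 10))
    ((Upto.of_pow final9_c5 (Nat.le_refl _)) : Upto _ _ 5120 (5120 + 2 ^ 10)))
    (Upto.trans (mid := 7168) ((Upto.of_pow final9_c6 (Nat.le_refl _)) : Upto _ _ 6144 (6144 + 2 ^ 10))
    ((Upto.of_pow final9_c7 (Nat.le_refl _)) : Upto _ _ 7168 (7168 + 2 ^ 10)))))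
    (by decide) (by decide)

theorem final10_c0 : allPow 7392 (finalStep fact node item10 T10 55536 10 7392) 10 0 = true := by decide +kernel
theorem final10_c1 : allPow 7392 (finalStep fact node item10 T10 55536 10 7392) 10 1024 = true := by decide +kernel
theorem final10_c2 : allPow 7392 (finalStep fact node item10 T10 55536 10 7392) 10 2048 = true := by decide +kernel
theorem final10_c3 : allPow 7392 (finalStep fact node item10 T10 55536 10 7392) 10 3072 = true := by decide +kernel
theorem final10_c4 : allPow 7392 (finalStep fact node item10 T10 55536 10 7392) 10 4096 = true := by decide +kernel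
theorem final10_c5 : allPow 7392 (finalStep fact node item10 T10 55536 10 7392) 10 5120 = true := by decide +kernel
theorem final10_c6 : allPow 7392 (finalStep fact node item10 T10 55536 10 7392) 10 6144 = true := by decide +kernel
theorem final10_c7 : allPow 7392 (finalStep fact node item10 T10 55536 10 7392) 10 7168 = true := by decide +kernel
theorem final10 : allBelow 13 7392 (finalStep fact node item10 T10 55536 10 7392) = true :=
  allBelow_of_upto (hi := 8192)
    (Upto.trans (mid := 4096) (Upto.trans (mid := 2048) (Upto.trans (mid := 1024) ((Upto.of_pow final10_c0 (Nat.le_refl _)) : Upto _ _ 0 (0 + 2 ^ 10))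
    ((Upto.of_pow final10_c1 (Nat.le_refl _)) : Upto _ _ 1024 (1024 + 2 ^ 10)))
    (Upto.trans (mid := 3072) ((Upto.of_pow final10_c2 (Nat.le_refl _)) : Upto _ _ 2048 (2048 + 2 ^ 10))
    ((Upto.of_pow final10_c3 (Nat.le_refl _)) : Upto _ _ 3072 (3072 + 2 ^ 10))))
    (Upto.trans (mid := 6144) (Upto.trans (mid := 5120) ((Upto.of_pow final10_c4 (Nat.le_refl _)) : Upto _ _ 4096 (4096 + 2 ^ 10))
    ((Upto.of_pow final10_c5 (Nat.le_refl _)) : Upto _ _ 5120 (5120 + 2 ^ 10)))
    (Upto.trans (mid := 7168) ((Upto.of_pow final10_c6 (Nat.le_refl _)) : Upto _ _ 6144 (6144 + 2 ^ 10))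
    ((Upto.of_pow final10_c7 (Nat.le_refl _)) : Upto _ _ 7168 (7168 + 2 ^ 10)))))
    (by decide) (by decide)

theorem relW_one : ∀ w ∈ relW, evalW (PresentedGroup.of (rels := (Cfsg.Spor.coxRelators CfsgLib.FusionExamples.J4Sub.Stab.edges ∪ {r | r ∈ CfsgLib.FusionExamples.J4Sub.Stab.extra}))) w = 1 := by
  have h : coxW CfsgLib.FusionExamples.J4Sub.Stab.edges pairs extraW = relW := by decide +kernel
  rw [← h]
  exact coxW_eq_one (by decide +kernel) rfl

noncomputable def tabU : CfsgLib.FusionExamples.J4Sub.Stab.Gen → Nat → Nat := fun a => tabs a true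

theorem sect : ∃ s : Nat → PresentedGroup (Cfsg.Spor.coxRelators CfsgLib.FusionExamples.J4Sub.Stab.edges ∪ {r | r ∈ CfsgLib.FusionExamples.J4Sub.Stab.extra}) ⧸ wordSubgroup (Cfsg.Spor.coxRelators CfsgLib.FusionExamples.J4Sub.Stab.edges ∪ {r | r ∈ CfsgLib.FusionExamples.J4Sub.Stab.extra}) subW,
    s 0 = ((1 : PresentedGroup (Cfsg.Spor.coxRelators CfsgLib.FusionExamples.J4Sub.Stab.edges ∪ {r | r ∈ CfsgLib.FusionExamples.J4Sub.Stab.extra})) : PresentedGroup (Cfsg.Spor.coxRelators CfsgLib.FusionExamples.J4Sub.Stab.edges ∪ {r | r ∈ CfsgLib.FusionExamples.J4Sub.Stab.extra}) ⧸ wordSubgroup (Cfsg.Spor.coxRelators CfsgLib.FusionExamples.J4Sub.Stab.edges ∪ {r | r ∈ CfsgLib.FusionExamples.J4Sub.Stab.extra}) subW) ∧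
    ∀ a ∈ ([.g1, .g12, .g15, .g20, .a] : List CfsgLib.FusionExamples.J4Sub.Stab.Gen), ∀ u, u < 7392 → tabU a u < 7392 ∧
      (PresentedGroup.of (rels := (Cfsg.Spor.coxRelators CfsgLib.FusionExamples.J4Sub.Stab.edges ∪ {r | r ∈ CfsgLib.FusionExamples.J4Sub.Stab.extra})) a) • s u = s (tabU a u) :=
  section_of_checks invols relW relW_one (by decide +kernel) subW lets data rtriv rroot 22 24 rfl rfl
    (by decide +kernel) (by decide +kernel) (fun k hk => allBelow_spec defs_ok k hk) (covers1.trans (covers2.trans (covers3.trans (covers4.trans (covers5.trans (covers6)))))) (by decide +kernel)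
    (by
      intro i hi u hu
      have hi' : i < 10 := hi
      interval_cases i
      · exact allBelow_spec final1 u hu
      · exact allBelow_spec final2 u hu
      · exact allBelow_spec final3 u hu
      · exact allBelow_spec final4 u hu
      · exact allBelow_spec final5 u hu
      · exact allBelow_spec final6 u hu
      · exact allBelow_spec final7 u hu
      · exact allBelow_spec final8 u hu
      · exact allBelow_spec final9 u hu
      · exact allBelow_spec final10 u hu
      ) [.g1, .g12, .g15, .g20, .a] tabU (by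
      intro a ha
      fin_cases ha
      · exact ⟨0, by decide, rfl, rfl⟩
      · exact ⟨2, by decide, rfl, rfl⟩
      · exact ⟨4, by decide, rfl, rfl⟩
      · exact ⟨6, by decide, rfl, rfl⟩
      · exact ⟨8, by decide, rfl, rfl⟩
      )

end CfsgLib.FusionExamples.J4Sub.Stab.B7392
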